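import Cfsg.Agent.SporB.FiTwoTwo.Realize

/-! Checks on four words in the double cover of PSU(6, 2) inside the Fischer group. -/

set_option autoImplicit false
set_option maxRecDepth 100000

namespace Cfsg.Agent.PSU62Mult

open Cfsg.Agent.CosetCert Cfsg.Agent.CosetEnum Cfsg.Agent.GFour25 Cfsg.Agent.SporB.FischerU

/-- A scaling of the first coordinate, on points. -/
noncomputable def dlFun (c : F4) (k : Fin 693) : Fin 693 :=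
  idx fun i => if i = 0 then c * pt k i else pt k i

theorem dl_inv : ∀ k : Fin 693, dlFun ⟨true, true⟩ (dlFun ⟨false, true⟩ k) = k ∧
    dlFun ⟨false, true⟩ (dlFun ⟨true, true⟩ k) = k := by decide +kernel

/-- The diagonal automorphism on points. -/
noncomputable def dl : Equiv.Perm (Fin 693) where
  toFun := dlFun ⟨false, true⟩
  invFun := dlFun ⟨true, true⟩
  left_inv k := (dl_inv k).1
  right_inv k := (dl_inv k).2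

theorem dl_tMove : ∀ (j : Fin 8) (k : Fin 693),
    dlFun ⟨false, true⟩ (tMove (genTv j) (dlFun ⟨true, true⟩ k)) =
      tMove (dlFun ⟨false, true⟩ (genTv j)) k := by decide +kernel

/-- A lift of the first element. -/
def wordA : List ℕ :=
  [9, 3, 4, 8, 5, 6, 4, 5, 3, 4, 8, 9, 6, 4, 5, 2, 3, 4, 8, 7, 6, 5, 4, 3, 2, 1, 2, 3, 4, 5, 6, 7, 8, 4, 3, 2, 5, 4, 6, 9, 8, 4, 3, 5, 4, 6, 5, 8, 4, 3, 9, 5, 4, 8, 6, 5, 4, 2, 3, 1, 2, 1, 2, 1, 3, 2, 4, 5, 6, 8, 4, 5, 3, 4, 8, 9, 4, 5, 6, 3, 4, 5, 2, 3, 4, 8, 7, 6, 5, 4, 3, 2, 1, 2, 3, 4, 5, 6, 7, 8, 4, 3, 2, 5, 4, 3, 6, 5, 4, 9, 8, 4, 3, 5, 3, 4, 8, 9, 4, 8, 6, 3, 4, 5, 2, 3, 4, 8, 7, 6, 5, 4, 3, 2, 1, 2, 3, 4, 5, 6, 7, 8, 4, 3, 2, 5, 4, 3, 6, 8, 4, 9, 8, 4, 3, 5]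

/-- A lift of the second element. -/
def wordB : List ℕ :=
  [9, 8, 4, 5, 3, 4, 8, 9, 4, 8, 5, 6, 4, 5, 2, 3, 4, 8, 7, 6, 5, 4, 3, 2, 1, 2, 3, 4, 5, 6, 7, 8, 4, 3, 2, 5, 4, 6, 5, 8, 4, 9, 8, 4, 3, 5, 4, 8, 9, 6, 4, 5, 3, 4, 8, 9, 5, 6, 3, 4, 5, 2, 3, 4, 8, 7, 6, 5, 4, 3, 2, 1, 2, 3, 4, 5, 6, 7, 8, 4, 3, 2, 5, 4, 3, 6, 5, 9, 8, 4, 3, 5, 4, 6, 3, 4, 8, 9, 8, 3, 4, 5, 2, 3, 4, 8, 7, 6, 5, 4, 3, 2, 1, 2, 3, 4, 5, 6, 7, 8, 4, 3, 2, 5, 4, 3, 8, 9, 8, 4, 3]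

/-- A lift of the first element, moved. -/
def wordC : List ℕ :=
  [8, 7, 5, 6, 4, 5, 3, 4, 8, 9, 6, 3, 4, 5, 2, 3, 4, 8, 7, 6, 5, 4, 3, 2, 1, 2, 3, 4, 5, 6, 7, 8, 4, 3, 2, 5, 4, 3, 6, 9, 8, 4, 3, 5, 4, 6, 5, 7, 8, 9, 5, 4, 8, 3, 4, 5, 2, 3, 4, 8, 7, 6, 5, 4, 3, 2, 1, 2, 3, 4, 5, 6, 7, 8, 4, 3, 2, 5, 4, 3, 8, 4, 5, 9, 5, 6, 4, 5, 2, 3, 4, 8, 7, 6, 5, 4, 3, 2, 1, 2, 3, 4, 5, 6, 7, 8, 4, 3, 2, 5, 4, 6, 5, 9, 4, 8, 2, 3, 4, 5, 1, 2, 3, 4, 8, 9, 4, 5, 6, 3, 4, 5, 2, 3, 4, 8, 7, 6, 5, 4, 3, 2, 1, 2, 3, 4, 5, 6, 7, 8, 4, 3, 2, 5, 4, 3, 6, 5, 4, 9, 8, 4, 3, 2, 1, 5, 4, 3, 2, 8, 4, 9]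

/-- A lift of the second element, moved. -/
def wordE : List ℕ :=
  [8, 4, 5, 3, 4, 8, 9, 6, 5, 2, 3, 4, 8, 7, 6, 5, 4, 3, 2, 1, 2, 3, 4, 5, 6, 7, 8, 4, 3, 2, 5, 6, 9, 8, 4, 3, 5, 4, 8, 6, 5, 4, 8, 9, 6, 4, 5, 2, 3, 4, 8, 7, 6, 5, 4, 3, 2, 1, 2, 3, 4, 5, 6, 7, 8, 4, 3, 2, 5, 4, 6, 9, 8, 4, 5, 6, 3, 4, 8, 9, 8, 3, 4, 5, 2, 3, 4, 8, 7, 6, 5, 4, 3, 2, 1, 2, 3, 4, 5, 6, 7, 8, 4, 3, 2, 5, 4, 3, 8, 9, 8, 4, 3]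

/-- The word of a commutator. -/
def commWord (u v : List ℕ) : List ℕ := v.reverse ++ u.reverse ++ v ++ u

theorem letters_inv : ∀ l : Fin 10, (l : ℕ) = 0 ∨
    (okWord [(l : ℕ), l] = true ∧ fixAll [(l : ℕ), l] = true) := by decide +kernel

theorem words_ok : okWord wordA = true ∧ okWord wordB = true ∧ okWord wordC = true ∧ okWord wordE = true ∧
    okWord (commWord wordA wordB) = true ∧ okWord (commWord wordC wordE) = true := by decide +kernel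

theorem words_base : FiTwentyTwoU.data.run wordA 0 = 0 ∧ FiTwentyTwoU.data.run wordB 0 = 0 ∧
    FiTwentyTwoU.data.run wordC 0 = 0 ∧ FiTwentyTwoU.data.run wordE 0 = 0 ∧
    FiTwentyTwoU.data.run (commWord wordA wordB) 1 ≠ 1 ∧
    FiTwentyTwoU.data.run (commWord wordC wordE) 1 = 1 ∧ FiTwentyTwoU.data.run [1] 1 ≠ 1 := by decide +kernel

/-- The point image of a word. -/
noncomputable def ptImg (w : List ℕ) (k : Fin 693) : ℕ := piN (FiTwentyTwoU.data.run w (secT.get 16 k))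

theorem words_twist : ∀ k : Fin 693,
    ptImg wordC (dl k) = (dl ⟨ptImg wordA k % 693, Nat.mod_lt _ (Nat.succ_pos _)⟩ : ℕ) ∧
    ptImg wordE (dl k) = (dl ⟨ptImg wordB k % 693, Nat.mod_lt _ (Nat.succ_pos _)⟩ : ℕ) := by decide +kernel

theorem words_comm : ∀ k : Fin 693, ptImg (commWord wordC wordE) k = k := by decide +kernel

theorem transA_pts : okWord [1] = true ∧ FiTwentyTwoU.data.run [1] 0 = 0 ∧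
    ∀ k : Fin 693, ptImg [1] k = k := by decide +kernel

end Cfsg.Agent.PSU62Mult
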